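import Cfsg.Agent.H69.AlmostCyclic.Basic
import Cfsg.Agent.H34.Swaps

/-!
A perfect subgroup centralises every solvable normal subgroup.
-/

set_option autoImplicit false
set_option linter.style.haveILetI false
set_option linter.unusedSectionVars false

namespace H69.AlmostCyclic

open Subgroup

variable {G : Type*} [Group G] [Finite G]

theorem hom_trivial_of_perfect {L K : Type*} [Group L] [Group K] (hL : commutator L = ⊤)
    [hK : Group.IsSolvable K] (f : L →* K) (l : L) : f l = 1 := by
  have h1 : f.range = ⊥ := by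
    by_contra h
    refine (Group.IsSolvable.commutator_lt_of_ne_bot h).ne ?_
    rw [MonoidHom.range_eq_map, ← Subgroup.map_commutator, ← _root_.commutator_def, hL]
  exact (Subgroup.eq_bot_iff_forall _).1 h1 _ ⟨l, rfl⟩

variable (L : Subgroup G)

/-- A cyclic normal subgroup. -/
theorem fix_cyclic (hL : commutator L = ⊤) {B : Subgroup G} [B.Normal] [IsCyclic B] :
    ∀ l ∈ L, ∀ b ∈ B, l * b * l⁻¹ = b := by
  intro l hl b hb
  have hcomm : ∀ f g : MulAut B, f * g = g * f := fun f g => by
    ext x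
    obtain ⟨z, hz⟩ := IsCyclic.exists_generator (α := B)
    obtain ⟨k, rfl⟩ := mem_zpowers_iff.1 (hz x)
    obtain ⟨i, hi⟩ := mem_zpowers_iff.1 (hz (f z))
    obtain ⟨j, hj⟩ := mem_zpowers_iff.1 (hz (g z))
    simp only [MulAut.mul_apply, map_zpow]
    rw [← hi, ← hj, map_zpow, map_zpow, ← hi, ← hj, ← zpow_mul, ← zpow_mul, ← zpow_mul, ← zpow_mul, mul_left_comm]
  haveI : Group.IsSolvable (MulAut B) := Group.isSolvable_of_comm hcomm
  have h := hom_trivial_of_perfect hL ((MulAut.conjNormal (H := B)).comp L.subtype) ⟨l, hl⟩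
  have h2 := congrArg (fun φ : MulAut B => ((φ ⟨b, hb⟩ : B) : G)) h
  simpa [MulAut.conjNormal_apply] using h2

/-- The `p`-part of an abelian subgroup. -/
def primPart (A : Subgroup G) [IsMulCommutative A] (p : ℕ) : Subgroup G where
  carrier := {a | a ∈ A ∧ ∃ k : ℕ, a ^ p ^ k = 1}
  one_mem' := ⟨one_mem _, 0, one_pow _⟩
  mul_mem' := by
    rintro a b ⟨ha, i, hi⟩ ⟨hb, j, hj⟩
    have hc : Commute a b :=
      congrArg Subtype.val (IsMulCommutative.is_comm.comm (⟨a, ha⟩ : A) ⟨b, hb⟩)
    refine ⟨mul_mem ha hb, i + j, ?_⟩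
    rw [hc.mul_pow, pow_add]
    nth_rw 1 [pow_mul]
    rw [hi, one_pow, one_mul, mul_comm, pow_mul, hj, one_pow]
  inv_mem' := by
    rintro a ⟨ha, k, hk⟩
    exact ⟨inv_mem ha, k, by rw [inv_pow, hk, inv_one]⟩

theorem mem_primPart {A : Subgroup G} [IsMulCommutative A] {p : ℕ} {a : G} :
    a ∈ primPart A p ↔ a ∈ A ∧ ∃ k : ℕ, a ^ p ^ k = 1 := Iff.rfl

instance primPart_normal (A : Subgroup G) [A.Normal] [IsMulCommutative A] (p : ℕ) :
    (primPart A p).Normal :=
  ⟨fun a ha g => ⟨Normal.conj_mem inferInstance a ha.1 g, ha.2.choose, by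
    rw [conj_pow, ha.2.choose_spec, mul_one, mul_inv_cancel]⟩⟩

theorem primPart_isPGroup (A : Subgroup G) [IsMulCommutative A] (p : ℕ) :
    IsPGroup p (primPart A p) := fun a => ⟨a.2.2.choose, Subtype.ext (by simpa using a.2.2.choose_spec)⟩

theorem fix_primPart (hG : AC G) (hL : commutator L = ⊤) (A : Subgroup G) [A.Normal]
    [IsMulCommutative A] {p : ℕ} (hp : p.Prime) :
    ∀ l ∈ L, ∀ a ∈ primPart A p, l * a * l⁻¹ = a := by
  haveI := Fact.mk hp
  obtain ⟨S, hS⟩ := (primPart_isPGroup A p).exists_le_sylow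
  by_cases hp2 : p = 2
  swap
  · haveI := hG.odd p hp hp2 S
    haveI : IsCyclic (primPart A p) := isCyclic_of_injective (Subgroup.inclusion hS)
      (Subgroup.inclusion_injective hS)
    exact fix_cyclic L hL
  subst hp2
  set B := primPart A 2 with hB
  have hBc : ∀ a ∈ B, ∀ b ∈ B, Commute a b := fun a ha b hb =>
    congrArg Subtype.val (IsMulCommutative.is_comm.comm (⟨a, ha.1⟩ : A) ⟨b, hb.1⟩)
  -- the squares
  let Q : Subgroup G :=
    { carrier := {x | ∃ a ∈ B, a * a = x}
      one_mem' := ⟨1, one_mem _, one_mul _⟩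
      mul_mem' := by
        rintro _ _ ⟨a, ha, rfl⟩ ⟨b, hb, rfl⟩
        exact ⟨a * b, mul_mem ha hb, by rw [(hBc b hb a ha).mul_mul_mul_comm]⟩
      inv_mem' := by
        rintro _ ⟨a, ha, rfl⟩
        exact ⟨a⁻¹, inv_mem ha, by rw [mul_inv_rev]⟩ }
  haveI : Q.Normal := ⟨by
    rintro _ ⟨a, ha, rfl⟩ g
    exact ⟨g * a * g⁻¹, Normal.conj_mem (primPart_normal A 2) a ha g, by group⟩⟩
  obtain ⟨C, hC, hi⟩ := hG.two S
  haveI : IsCyclic Q := by
    have hQS : Q ≤ (S : Subgroup G) := by
      rintro _ ⟨a, ha, rfl⟩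
      exact mul_mem (hS ha) (hS ha)
    have hQC : ∀ x : Q, (⟨x, hQS x.2⟩ : ↥(S : Subgroup G)) ∈ C := by
      rintro ⟨_, a, ha, rfl⟩
      rcases (Nat.dvd_prime Nat.prime_two).1 hi with h1 | h2
      · rw [Subgroup.index_eq_one.1 h1]; exact mem_top _
      · exact Subgroup.mul_self_mem_of_index_two h2 (⟨a, hS ha⟩ : ↥(S : Subgroup G))
    exact isCyclic_of_injective ((Subgroup.inclusion hQS).codRestrict C hQC)
      (fun a b h => Subgroup.inclusion_injective hQS (congrArg Subtype.val h))
  have hQfix := fix_cyclic L hL (B := Q)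
  -- the elements of square one
  let Om : Type _ := {a : G // a ∈ B ∧ a * a = 1}
  have hOm : Nat.card Om ≤ 4 := by
    by_contra h
    haveI := Fintype.ofFinite Om
    rw [Nat.card_eq_fintype_card] at h
    classical
    let one : Om := ⟨1, one_mem _, one_mul _⟩
    obtain ⟨a, ha⟩ := Finset.exists_mem_notMem_of_card_lt_card
      (s := ({one} : Finset Om)) (t := Finset.univ) (by simp; omega)
    obtain ⟨b, hb⟩ := Finset.exists_mem_notMem_of_card_lt_card
      (s := ({one, a} : Finset Om)) (t := Finset.univ) (by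
        have := Finset.card_le_two (a := one) (b := a)
        simp only [Finset.card_univ]; omega)
    let ab : Om := ⟨a.1 * b.1, mul_mem a.2.1 b.2.1, by
      rw [(hBc b.1 b.2.1 a.1 a.2.1).mul_mul_mul_comm, a.2.2, b.2.2, one_mul]⟩
    obtain ⟨c, hc⟩ := Finset.exists_mem_notMem_of_card_lt_card
      (s := ({one, a, b, ab} : Finset Om)) (t := Finset.univ) (by
        have := Finset.card_le_four (a := one) (b := a) (c := b) (d := ab)
        simp only [Finset.card_univ]; omega)
    simp only [Finset.mem_singleton, Finset.mem_insert, Finset.mem_univ, true_and, not_or] at ha hb hc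
    exact hG.no_eight a.2.2 b.2.2 c.2.2 (hBc _ a.2.1 _ b.2.1) (hBc _ a.2.1 _ c.2.1)
      (hBc _ b.2.1 _ c.2.1) (fun h => ha (Subtype.ext h)) (fun h => hb.1 (Subtype.ext h))
      (fun h => hb.2 (Subtype.ext h)) (fun h => hc.1 (Subtype.ext h)) (fun h => hc.2.1 (Subtype.ext h))
      (fun h => hc.2.2.1 (Subtype.ext h)) (fun h => hc.2.2.2 (Subtype.ext h))
  have hcj : ∀ (l : G) (a : G), a * a = 1 → l * a * l⁻¹ * (l * a * l⁻¹) = 1 := fun l a h => by
    rw [show l * a * l⁻¹ * (l * a * l⁻¹) = l * (a * a) * l⁻¹ from by group, h, mul_one, mul_inv_cancel]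
  let act : L →* Equiv.Perm Om :=
    { toFun := fun l =>
        { toFun := fun a => ⟨(l : G) * a.1 * (l : G)⁻¹, Normal.conj_mem (primPart_normal A 2) _ a.2.1 _,
            hcj _ _ a.2.2⟩
          invFun := fun a => ⟨(l : G)⁻¹ * a.1 * (l : G), by
              have := Normal.conj_mem (primPart_normal A 2) _ a.2.1 (l : G)⁻¹
              simpa using this, by
              have := hcj (l : G)⁻¹ _ a.2.2
              simpa using this⟩
          left_inv := fun a => Subtype.ext (by simp [mul_assoc])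
          right_inv := fun a => Subtype.ext (by simp [mul_assoc]) }
      map_one' := by ext a; simp
      map_mul' := fun x y => by ext a; simp [mul_assoc] }
  haveI : Finite Om := Subtype.finite
  haveI := H34.Swaps.isSolvable_perm_le_four hOm
  have hOmfix : ∀ l ∈ L, ∀ a ∈ B, a * a = 1 → l * a * l⁻¹ = a := by
    intro l hl a ha ha2
    have := congrArg (fun e : Equiv.Perm Om => (e ⟨a, ha, ha2⟩).1)
      (hom_trivial_of_perfect hL act ⟨l, hl⟩)
    simpa [act] using this
  intro l hl a ha
  have hmem : ∀ x ∈ L, a⁻¹ * (x * a * x⁻¹) ∈ B ∧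
      a⁻¹ * (x * a * x⁻¹) * (a⁻¹ * (x * a * x⁻¹)) = 1 := by
    intro x hx
    have hb := Normal.conj_mem (primPart_normal A 2) a ha x
    refine ⟨mul_mem (inv_mem ha) hb, ?_⟩
    rw [(hBc _ hb _ (inv_mem ha)).mul_mul_mul_comm, show x * a * x⁻¹ * (x * a * x⁻¹) = x * (a * a) * x⁻¹ from by group,
      hQfix x hx _ ⟨a, ha, rfl⟩]
    group
  let f : L →* A :=
    { toFun := fun x => ⟨a⁻¹ * ((x : G) * a * (x : G)⁻¹), (hmem x x.2).1.1⟩
      map_one' := Subtype.ext (by simp)
      map_mul' := fun x y => Subtype.ext (by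
        show a⁻¹ * ((x : G) * y * a * ((x : G) * y)⁻¹) =
          a⁻¹ * ((x : G) * a * (x : G)⁻¹) * (a⁻¹ * ((y : G) * a * (y : G)⁻¹))
        have h := hOmfix x x.2 _ (hmem y y.2).1 (hmem y y.2).2
        conv_rhs => rw [← h]
        group) }
  haveI : Group.IsSolvable A := Group.isSolvable_of_comm fun u v => IsMulCommutative.is_comm.comm u v
  have h : a⁻¹ * (l * a * l⁻¹) = 1 := congrArg Subtype.val (hom_trivial_of_perfect hL f ⟨l, hl⟩)
  exact (inv_mul_eq_one.1 h).symm

/-- An abelian normal subgroup. -/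
theorem fix_abelian (hG : AC G) (hL : commutator L = ⊤) (A : Subgroup G) [A.Normal]
    [IsMulCommutative A] : ∀ l ∈ L, ∀ a ∈ A, l * a * l⁻¹ = a := by
  intro l hl
  have key : ∀ n : ℕ, ∀ a ∈ A, orderOf a = n → l * a * l⁻¹ = a := by
    intro n
    induction n using Nat.recOnPrimeCoprime with
    | zero => exact fun a _ h => absurd h (orderOf_pos a).ne'
    | prime_pow p k hp =>
      intro a ha h
      exact fix_primPart L hG hL A hp l hl a ⟨ha, k, h ▸ pow_orderOf_eq_one a⟩
    | coprime u v hu hv huv ihu ihv =>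
      intro a ha h
      have e1 : orderOf (a ^ v) = u := by
        rw [orderOf_pow_of_dvd (by omega) (h ▸ dvd_mul_left v u), h, Nat.mul_div_cancel _ (by omega)]
      have e2 : orderOf (a ^ u) = v := by
        rw [orderOf_pow_of_dvd (by omega) (h ▸ dvd_mul_right u v), h,
          Nat.mul_div_cancel_left _ (by omega)]
      have hb := Nat.gcd_eq_gcd_ab u v
      rw [huv, Nat.cast_one] at hb
      have ea : a = (a ^ u) ^ Nat.gcdA u v * (a ^ v) ^ Nat.gcdB u v := by
        rw [← zpow_natCast a u, ← zpow_natCast a v, ← zpow_mul, ← zpow_mul, ← zpow_add, ← hb, zpow_one]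
      rw [ea, show ∀ x y : G, l * (x * y) * l⁻¹ = l * x * l⁻¹ * (l * y * l⁻¹) from
        fun x y => by group, ← conj_zpow, ← conj_zpow, ihv _ (pow_mem ha _) e2, ihu _ (pow_mem ha _) e1]
  exact fun a ha => key _ a ha rfl

/-- A perfect normal subgroup centralises every solvable normal subgroup. -/
theorem centralizes_solvable [L.Normal] (hG : AC G) (hL : commutator L = ⊤) (M : Subgroup G) [M.Normal]
    (hM : Group.IsSolvable M) : ⁅M, L⁆ = ⊥ := by
  induction h : Nat.card M using Nat.strong_induction_on generalizing M with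
  | _ n ih =>
    subst h
    rcases eq_or_ne M ⊥ with rfl | hne
    · exact Subgroup.commutator_bot_left _
    have hlt : ⁅M, M⁆ < M := by
      have h1 : M.subgroupOf M ≠ ⊥ := by
        rw [Subgroup.subgroupOf_self]
        exact fun h => hne (by rw [← Subgroup.map_subgroupOf_eq_of_le (le_refl M), Subgroup.subgroupOf_self, h, Subgroup.map_bot])
      have h2 := Group.IsSolvable.commutator_lt_of_ne_bot (G := M) h1
      refine lt_of_le_of_ne (Subgroup.commutator_le_self M) fun e => h2.ne ?_
      apply Subgroup.map_injective M.subtype_injective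
      rw [Subgroup.map_commutator, Subgroup.map_subgroupOf_eq_of_le le_rfl, e]
    have hcard : Nat.card ↥⁅M, M⁆ < Nat.card M :=
      Set.Finite.card_lt_card (Set.toFinite (M : Set G)) hlt
    have hN : ⁅⁅M, M⁆, L⁆ = ⊥ := ih _ hcard ⁅M, M⁆
      (Group.isSolvable_of_isSolvable_injective (Subgroup.inclusion_injective hlt.le)) rfl
    let π := QuotientGroup.mk' ⁅M, M⁆
    have hs : Function.Surjective π := QuotientGroup.mk'_surjective _
    haveI : (M.map π).Normal := Subgroup.Normal.map inferInstance π hs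
    haveI : IsMulCommutative (M.map π) := by
      refine ⟨⟨fun x y => Subtype.ext ?_⟩⟩
      have h0 : ⁅M.map π, M.map π⁆ = ⊥ := by
        rw [← Subgroup.map_commutator, (Subgroup.map_eq_bot_iff _).2]
        rw [QuotientGroup.ker_mk']
      exact commutatorElement_eq_one_iff_mul_comm.1
        ((Subgroup.eq_bot_iff_forall _).1 h0 _ (Subgroup.commutator_mem_commutator x.2 y.2))
    have hL' : commutator (L.map π) = ⊤ := by
      have h1 : Function.Surjective (π.subgroupMap L) := π.subgroupMap_surjective L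
      rw [_root_.commutator_def, ← MonoidHom.range_eq_top.2 h1, MonoidHom.range_eq_map,
        ← Subgroup.map_commutator, ← _root_.commutator_def, hL]
    have h1 : ⁅M, L⁆ ≤ ⁅M, M⁆ := by
      rw [Subgroup.commutator_le]
      intro m hm l hl
      have := fix_abelian (L.map π) (hG.of_surjective π hs) hL' (M.map π) (π l)
        ⟨l, hl, rfl⟩ (π m) ⟨m, hm, rfl⟩
      rw [← QuotientGroup.eq_one_iff, ← QuotientGroup.mk'_apply, map_commutatorElement,
        commutatorElement_eq_one_iff_mul_comm]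
      calc π m * π l = π l * π m * (π l)⁻¹ * π l := by rw [this]
        _ = π l * π m := by group
    have h2 : ⁅⁅M, L⁆, L⁆ = ⊥ := le_bot_iff.1 (hN ▸ Subgroup.commutator_mono h1 le_rfl)
    have h3 : ⁅⁅L, L⁆, M⁆ = ⊥ := Subgroup.commutator_commutator_eq_bot_of_rotate
      (by rwa [Subgroup.commutator_comm L M]) h2
    have hLL : ⁅L, L⁆ = L := by
      have := congrArg (Subgroup.map L.subtype) hL
      rwa [_root_.commutator_def, Subgroup.map_commutator, ← MonoidHom.range_eq_map,
        Subgroup.range_subtype] at this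
    rw [hLL] at h3
    rwa [Subgroup.commutator_comm]

end H69.AlmostCyclic
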