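import Mathlib

/-!
Finite groups whose Sylow subgroups of odd order are cyclic and whose Sylow two-subgroups have
a cyclic subgroup of index at most two.
-/

set_option autoImplicit false
set_option linter.style.haveILetI false
set_option linter.unusedSectionVars false

namespace H69.AlmostCyclic

open Subgroup

/-- Odd Sylow subgroups cyclic, Sylow two-subgroups cyclic-by-(order at most two). -/
structure AC (G : Type*) [Group G] : Prop where
  odd : ∀ p : ℕ, p.Prime → p ≠ 2 → ∀ P : Sylow p G, IsCyclic P
  two : ∀ S : Sylow 2 G, ∃ C : Subgroup ↥(S : Subgroup G), IsCyclic C ∧ C.index ∣ 2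

variable {G H : Type*} [Group G] [Finite G] [Group H] [Finite H]

theorem normal_of_index_dvd_two {K : Type*} [Group K] {C : Subgroup K} (h : C.index ∣ 2) :
    C.Normal := by
  rcases (Nat.dvd_prime Nat.prime_two).1 h with h1 | h2
  · rw [Subgroup.index_eq_one] at h1; subst h1; infer_instance
  · exact Subgroup.normal_of_index_eq_two h2

theorem AC.of_injective (hG : AC G) (f : H →* G) (hf : Function.Injective f) : AC H := by
  constructor
  · intro p hp hp2 P
    haveI := Fact.mk hp
    obtain ⟨Q, hQ⟩ := (P.isPGroup'.map f).exists_le_sylow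
    haveI := hG.odd p hp hp2 Q
    exact isCyclic_of_injective ((f.comp (P : Subgroup H).subtype).codRestrict (Q : Subgroup G)
      fun x => hQ ⟨x, x.2, rfl⟩) fun a b h => Subtype.ext (hf (congrArg Subtype.val h))
  · intro P
    haveI : Fact (Nat.Prime 2) := ⟨Nat.prime_two⟩
    obtain ⟨Q, hQ⟩ := (P.isPGroup'.map f).exists_le_sylow
    obtain ⟨C, hC, hi⟩ := hG.two Q
    let g : ↥(P : Subgroup H) →* ↥(Q : Subgroup G) :=
      (f.comp (P : Subgroup H).subtype).codRestrict (Q : Subgroup G) fun x => hQ ⟨x, x.2, rfl⟩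
    have hg : Function.Injective g := fun a b h => Subtype.ext (hf (congrArg Subtype.val h))
    refine ⟨C.comap g, isCyclic_of_injective ((g.comp (C.comap g).subtype).codRestrict C
      fun x => x.2) fun a b h => Subtype.ext (hg (congrArg Subtype.val h)), ?_⟩
    haveI := normal_of_index_dvd_two hi
    rw [Subgroup.index_comap]
    exact (Subgroup.relIndex_dvd_index_of_normal C g.range).trans hi

theorem AC.sub (hG : AC G) (K : Subgroup G) : AC K := hG.of_injective K.subtype K.subtype_injective

theorem AC.of_surjective (hG : AC G) (f : G →* H) (hf : Function.Surjective f) : AC H := by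
  constructor
  · intro p hp hp2 P
    haveI := Fact.mk hp
    obtain ⟨Q, hQ⟩ := Sylow.mapSurjective_surjective hf p P
    haveI := hG.odd p hp hp2 Q
    subst hQ
    exact isCyclic_of_surjective _ ((f.subgroupMap_surjective (Q : Subgroup G)))
  · intro P
    haveI : Fact (Nat.Prime 2) := ⟨Nat.prime_two⟩
    obtain ⟨Q, hQ⟩ := Sylow.mapSurjective_surjective hf 2 P
    obtain ⟨C, hC, hi⟩ := hG.two Q
    subst hQ
    refine ⟨C.map (f.subgroupMap (Q : Subgroup G)), isCyclic_of_surjective _
      ((f.subgroupMap (Q : Subgroup G)).subgroupMap_surjective C),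
      (Subgroup.index_map_dvd _ (f.subgroupMap_surjective (Q : Subgroup G))).trans hi⟩

theorem eq_of_cyclic_involution {A : Type*} [Group A] [Finite A] [IsCyclic A] {a b : A}
    (ha : a ^ 2 = 1) (ha1 : a ≠ 1) (hb : b ^ 2 = 1) (hb1 : b ≠ 1) : a = b := by
  classical
  haveI := Fintype.ofFinite A
  by_contra h
  have h1 := IsCyclic.card_pow_eq_one_le (α := A) (n := 2) two_pos
  have h2 : ({1, a, b} : Finset A) ⊆ Finset.univ.filter fun x => x ^ 2 = 1 := by
    intro x hx
    simp only [Finset.mem_insert, Finset.mem_singleton] at hx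
    rcases hx with rfl | rfl | rfl <;> simp [ha, hb]
  have h3 : ({1, a, b} : Finset A).card = 3 := by
    rw [Finset.card_insert_of_notMem, Finset.card_pair h]
    simp [Ne.symm ha1, Ne.symm hb1]
  have := Finset.card_le_card h2
  omega

/-- Three commuting independent involutions do not occur. -/
theorem AC.no_eight (hG : AC G) {a b c : G} (ha : a * a = 1) (hb : b * b = 1) (hc : c * c = 1)
    (hab : Commute a b) (hac : Commute a c) (hbc : Commute b c) (ha1 : a ≠ 1) (hb1 : b ≠ 1)
    (hba : b ≠ a) (hc1 : c ≠ 1) (hca : c ≠ a) (hcb : c ≠ b) (hcab : c ≠ a * b) : False := by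
  haveI : Fact (Nat.Prime 2) := ⟨Nat.prime_two⟩
  let E := closure ({a, b, c} : Set G)
  have hE : IsMulCommutative E := by
    refine isMulCommutative_closure ?_
    intro x hx y hy
    simp only [Set.mem_insert_iff, Set.mem_singleton_iff] at hx hy
    rcases hx with rfl | rfl | rfl <;> rcases hy with rfl | rfl | rfl
    all_goals first
      | rfl | exact hab.eq | exact hac.eq | exact hbc.eq | exact hab.symm.eq | exact hac.symm.eq
      | exact hbc.symm.eq
  have hE2 : ∀ x : E, x ^ 2 = 1 := by
    rintro ⟨x, hx⟩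
    apply Subtype.ext
    show x ^ 2 = 1
    induction hx using Subgroup.closure_induction with
    | mem y hy =>
      simp only [Set.mem_insert_iff, Set.mem_singleton_iff] at hy
      rcases hy with rfl | rfl | rfl <;> simp [pow_two, ha, hb, hc]
    | one => simp
    | mul y z hy hz ihy ihz =>
      have : Commute y z := congrArg Subtype.val (hE.is_comm.comm ⟨y, hy⟩ ⟨z, hz⟩)
      rw [this.mul_pow, ihy, ihz, one_mul]
    | inv y _ ihy => rw [inv_pow, ihy, inv_one]
  obtain ⟨S, hS⟩ := (show IsPGroup 2 E from fun x => ⟨1, by simpa using hE2 x⟩).exists_le_sylow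
  obtain ⟨C, hC, hi⟩ := hG.two S
  let sa : ↥(S : Subgroup G) := ⟨a, hS (subset_closure (by simp))⟩
  let sb : ↥(S : Subgroup G) := ⟨b, hS (subset_closure (by simp))⟩
  let sc : ↥(S : Subgroup G) := ⟨c, hS (subset_closure (by simp))⟩
  have pick : ∀ x y : ↥(S : Subgroup G), x ∈ C ∨ y ∈ C ∨ x * y ∈ C := by
    intro x y
    by_cases hx : x ∈ C
    · exact Or.inl hx
    by_cases hy : y ∈ C
    · exact Or.inr (Or.inl hy)
    rcases (Nat.dvd_prime Nat.prime_two).1 hi with h1 | h2
    · exact absurd (Subgroup.index_eq_one.1 h1 ▸ mem_top x) hx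
    · exact Or.inr (Or.inr ((Subgroup.mul_mem_iff_of_index_two h2).2 (iff_of_false hx hy)))
  have same : ∀ {x y : ↥(S : Subgroup G)}, x ∈ C → y ∈ C → (x : G) * x = 1 → (y : G) * y = 1 →
      (x : G) ≠ 1 → (y : G) ≠ 1 → (x : G) = y := by
    intro x y hx hy hx2 hy2 hx1 hy1
    have := eq_of_cyclic_involution (a := (⟨x, hx⟩ : C)) (b := ⟨y, hy⟩)
      (Subtype.ext (Subtype.ext (by simpa [pow_two] using hx2)))
      (fun h => hx1 (congrArg (fun z : C => ((z : ↥(S : Subgroup G)) : G)) h))
      (Subtype.ext (Subtype.ext (by simpa [pow_two] using hy2)))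
      (fun h => hy1 (congrArg (fun z : C => ((z : ↥(S : Subgroup G)) : G)) h))
    exact congrArg (fun z : C => ((z : ↥(S : Subgroup G)) : G)) this
  have sq : ∀ {x y : G}, x * x = 1 → y * y = 1 → Commute x y → x * y * (x * y) = 1 :=
    fun hx hy h => by rw [h.symm.mul_mul_mul_comm, hx, hy, one_mul]
  have ne1 : ∀ {x y : G}, x * x = 1 → y ≠ x → x * y ≠ 1 := by
    intro x y hx hxy h
    exact hxy (mul_left_cancel (h.trans hx.symm))
  obtain ⟨u, hu, hu2, hu1, hu3⟩ : ∃ u : ↥(S : Subgroup G), u ∈ C ∧ (u : G) * u = 1 ∧ (u : G) ≠ 1 ∧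
      ((u : G) = a ∨ (u : G) = b ∨ (u : G) = a * b) := by
    rcases pick sa sb with h | h | h
    · exact ⟨sa, h, ha, ha1, Or.inl rfl⟩
    · exact ⟨sb, h, hb, hb1, Or.inr (Or.inl rfl)⟩
    · exact ⟨sa * sb, h, sq ha hb hab, ne1 ha hba, Or.inr (Or.inr rfl)⟩
  have huc : (u : G) = a ∨ (u : G) = c ∨ (u : G) = a * c := by
    rcases pick sa sc with h | h | h
    · exact Or.inl (same hu h hu2 ha hu1 ha1)
    · exact Or.inr (Or.inl (same hu h hu2 hc hu1 hc1))
    · exact Or.inr (Or.inr (same hu h hu2 (sq ha hc hac) hu1 (ne1 ha hca)))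
  have hua : (u : G) = a := by
    rcases huc with h | h | h
    · exact h
    · rcases hu3 with h' | h' | h'
      · exact absurd (h.symm.trans h') hca
      · exact absurd (h.symm.trans h') hcb
      · exact absurd (h.symm.trans h') hcab
    · rcases hu3 with h' | h' | h'
      · exact h'
      · have e : a * c = b := h.symm.trans h'
        exact absurd (by rw [← e, ← mul_assoc, ha, one_mul]) hcab
      · exact absurd (mul_left_cancel (h.symm.trans h')) hcb
  rcases pick sb sc with h | h | h
  · exact hba (hua.symm.trans (same hu h hu2 hb hu1 hb1)).symm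
  · exact hca (hua.symm.trans (same hu h hu2 hc hu1 hc1)).symm
  · have e : a = b * c := hua.symm.trans (same hu h hu2 (sq hb hc hbc) hu1 (ne1 hb hcb))
    refine hcab ?_
    rw [hab.eq, e, ← mul_assoc, hb, one_mul]

/-- Elements of one odd prime order in an abelian pair generate the same subgroup. -/
theorem AC.zpowers_eq (hG : AC G) {r : ℕ} (hr : r.Prime) (hr2 : r ≠ 2) {x y : G}
    (hx : orderOf x = r) (hy : orderOf y = r) (hxy : Commute x y) : zpowers x = zpowers y := by
  haveI := Fact.mk hr
  have hp : ∀ g ∈ closure ({x, y} : Set G), g ^ r = 1 ∧ Commute g x ∧ Commute g y := by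
    intro g hg
    induction hg using Subgroup.closure_induction with
    | mem z hz =>
      simp only [Set.mem_insert_iff, Set.mem_singleton_iff] at hz
      rcases hz with rfl | rfl
      · exact ⟨by rw [← hx]; exact pow_orderOf_eq_one _, Commute.refl _, hxy⟩
      · exact ⟨by rw [← hy]; exact pow_orderOf_eq_one _, hxy.symm, Commute.refl _⟩
    | one => exact ⟨one_pow _, Commute.one_left _, Commute.one_left _⟩
    | mul a b ha hb iha ihb =>
      have hc : Commute a b := by
        refine (Subgroup.closure_induction (p := fun z _ => Commute a z) ?_ (Commute.one_right _)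
          (fun _ _ _ _ => Commute.mul_right) (fun _ _ => Commute.inv_right) hb)
        intro z hz
        simp only [Set.mem_insert_iff, Set.mem_singleton_iff] at hz
        rcases hz with rfl | rfl
        · exact iha.2.1
        · exact iha.2.2
      exact ⟨by rw [hc.mul_pow, iha.1, ihb.1, one_mul], iha.2.1.mul_left ihb.2.1,
        iha.2.2.mul_left ihb.2.2⟩
    | inv a _ iha => exact ⟨by rw [inv_pow, iha.1, inv_one], iha.2.1.inv_left, iha.2.2.inv_left⟩
  obtain ⟨P, hP⟩ := (show IsPGroup r (closure ({x, y} : Set G)) from fun g =>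
    ⟨1, Subtype.ext (by simpa using (hp g.1 g.2).1)⟩).exists_le_sylow
  haveI := hG.odd r hr hr2 P
  have key : ∀ a b : ↥(P : Subgroup G), orderOf a = r → orderOf b = r →
      zpowers (a : G) ≤ zpowers (b : G) := by
    intro a b ha hb
    classical
    haveI := Fintype.ofFinite ↥(P : Subgroup G)
    have hmem : a ∈ zpowers b := by
      by_contra hn
      have h1 := IsCyclic.card_pow_eq_one_le (α := ↥(P : Subgroup G)) (n := r) hr.pos
      have h2 : insert a (Finset.univ.filter fun z => z ∈ zpowers b) ⊆
          Finset.univ.filter fun z : ↥(P : Subgroup G) => z ^ r = 1 := by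
        intro z hz
        simp only [Finset.mem_insert, Finset.mem_filter, Finset.mem_univ, true_and] at hz ⊢
        rcases hz with rfl | hz
        · exact orderOf_dvd_iff_pow_eq_one.1 (dvd_of_eq ha)
        · exact orderOf_dvd_iff_pow_eq_one.1 ((orderOf_dvd_of_mem_zpowers hz).trans (dvd_of_eq hb))
      have h3 := Finset.card_le_card h2
      rw [Finset.card_insert_of_notMem (by simpa using hn)] at h3
      have h4 : (Finset.univ.filter fun z => z ∈ zpowers b).card = r := by
        refine Eq.trans ?_ hb
        rw [← Nat.card_zpowers b, Nat.card_eq_fintype_card, Fintype.card_subtype]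
      omega
    obtain ⟨k, hk⟩ := mem_zpowers_iff.1 hmem
    exact zpowers_le.2 (mem_zpowers_iff.2 ⟨k, by rw [← hk]; rfl⟩)
  let px : ↥(P : Subgroup G) := ⟨x, hP (subset_closure (by simp))⟩
  let py : ↥(P : Subgroup G) := ⟨y, hP (subset_closure (by simp))⟩
  exact le_antisymm (key px py ((Subgroup.orderOf_mk ..).trans hx) ((Subgroup.orderOf_mk ..).trans hy))
    (key py px ((Subgroup.orderOf_mk ..).trans hy) ((Subgroup.orderOf_mk ..).trans hx))

end H69.AlmostCyclic
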