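import Cfsg.Agent.H39.PSL2Multiplier
import Cfsg.Agent.H11.ThreeOrders.Mixed.Aut

/-!
Facts about `PSL(2, p)`: commuting involutions, outer automorphisms, perfect central extensions.
-/

set_option autoImplicit false
set_option linter.style.haveILetI false
set_option linter.unusedSectionVars false

namespace H69.AlmostCyclic

open Matrix Subgroup
open scoped MatrixGroups

variable {p : ℕ} [Fact p.Prime]

local notation "Pp" => Matrix.ProjectiveSpecialLinearGroup (Fin 2) (ZMod p)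

theorem psl_four (hp : p ≠ 2) :
    ∃ i j : Pp, i * i = 1 ∧ j * j = 1 ∧ Commute i j ∧ i ≠ 1 ∧ j ≠ 1 ∧ j ≠ i := by
  obtain ⟨a, b, hab⟩ := ZMod.sq_add_sq p (-1)
  have h2 : (2 : ZMod p) ≠ 0 := by
    intro h
    have := (ZMod.natCast_eq_zero_iff 2 p).1 (by exact_mod_cast h)
    exact hp ((Nat.prime_dvd_prime_iff_eq (Fact.out : p.Prime) Nat.prime_two).1 this)
  let I : SL(2, ZMod p) := ⟨!![0, 1; -1, 0], by simp [Matrix.det_fin_two]⟩
  let J : SL(2, ZMod p) := ⟨!![a, b; b, -a], by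
    simp [Matrix.det_fin_two]; linear_combination (-1 : ZMod p) * hab⟩
  let N : SL(2, ZMod p) := ⟨!![-1, 0; 0, -1], by simp [Matrix.det_fin_two]⟩
  have hN : N ∈ center SL(2, ZMod p) := by
    rw [Matrix.SpecialLinearGroup.mem_center_iff]
    exact ⟨-1, by simp, by ext i j; fin_cases i <;> fin_cases j <;> simp [N]⟩
  have hI : I * I = N := by
    ext i j
    rw [Matrix.SpecialLinearGroup.coe_mul, Matrix.mul_apply, Fin.sum_univ_two]
    fin_cases i <;> fin_cases j <;> simp [I, N]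
  have hJ : J * J = N := by
    ext i j
    rw [Matrix.SpecialLinearGroup.coe_mul, Matrix.mul_apply, Fin.sum_univ_two]
    fin_cases i <;> fin_cases j <;> simp [J, N] <;> first | linear_combination hab | ring
  have hIJ : I * J = N * (J * I) := by
    ext i j
    simp only [Matrix.SpecialLinearGroup.coe_mul]
    fin_cases i <;> fin_cases j <;> simp [I, J, N, Matrix.mul_apply, Fin.sum_univ_two]
  let π : SL(2, ZMod p) →* Pp := QuotientGroup.mk' (center SL(2, ZMod p))
  have hπN : π N = 1 := (QuotientGroup.eq_one_iff N).2 hN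
  have sc : ∀ A : SL(2, ZMod p), A ∈ center SL(2, ZMod p) → ∃ r : ZMod p, r ≠ 0 ∧
      (A : Matrix (Fin 2) (Fin 2) (ZMod p)) 0 0 = r ∧ (A : Matrix (Fin 2) (Fin 2) (ZMod p)) 0 1 = 0 ∧
      (A : Matrix (Fin 2) (Fin 2) (ZMod p)) 1 0 = 0 ∧
      (A : Matrix (Fin 2) (Fin 2) (ZMod p)) 1 1 = r := by
    intro A hA
    obtain ⟨r, hr, he⟩ := Matrix.SpecialLinearGroup.mem_center_iff.1 hA
    refine ⟨r, fun h => ?_, ?_, ?_, ?_, ?_⟩
    · rw [h] at hr; simp at hr
    all_goals rw [← he]; simp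
  refine ⟨π I, π J, ?_, ?_, ?_, ?_, ?_, ?_⟩
  · rw [← map_mul, hI, hπN]
  · rw [← map_mul, hJ, hπN]
  · show π I * π J = π J * π I
    rw [← map_mul, hIJ, map_mul, hπN, one_mul, map_mul]
  · intro h
    obtain ⟨r, -, -, h01, -, -⟩ := sc I ((QuotientGroup.eq_one_iff I).1 h)
    simp [I] at h01
  · intro h
    obtain ⟨r, hr, h00, h01, -, h11⟩ := sc J ((QuotientGroup.eq_one_iff J).1 h)
    simp [J] at h00 h01 h11
    have : (2 : ZMod p) * r = 0 := by linear_combination (-1 : ZMod p) * h00 - h11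
    exact mul_ne_zero h2 hr this
  · intro h
    have hz : J⁻¹ * I ∈ center SL(2, ZMod p) := QuotientGroup.eq.1 h
    obtain ⟨r, hr, h00, h01, h10, h11⟩ := sc _ hz
    have e : I = J * (J⁻¹ * I) := by group
    have e' : (I : Matrix (Fin 2) (Fin 2) (ZMod p)) =
        (J : Matrix (Fin 2) (Fin 2) (ZMod p)) * ((J⁻¹ * I : SL(2, ZMod p)) : Matrix (Fin 2) (Fin 2) (ZMod p)) :=
      congrArg Subtype.val e
    have f01 := congrFun (congrFun e' 0) 1
    have f10 := congrFun (congrFun e' 1) 0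
    rw [Matrix.mul_apply, Fin.sum_univ_two, h01, h11] at f01
    rw [Matrix.mul_apply, Fin.sum_univ_two, h00, h10] at f10
    simp [I, J] at f01 f10
    exact h2 (by linear_combination f01 - f10)

theorem aut_mul_inner (hp : p ≠ 2) (α β : MulAut Pp) (hα : ∀ s : Pp, α ≠ MulAut.conj s)
    (hβ : ∀ s : Pp, β ≠ MulAut.conj s) : ∃ s : Pp, α * β = MulAut.conj s := by
  have hσ : ∀ σ : ZMod p ≃+* ZMod p, σ = 1 := fun σ => by
    refine RingEquiv.ext fun x => ?_
    obtain ⟨n, rfl⟩ := ZMod.natCast_zmod_surjective x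
    exact map_natCast σ n
  obtain ⟨g, σ, rfl⟩ := H55.aut_PSL_two α
  obtain ⟨k, τ, rfl⟩ := H55.aut_PSL_two β
  rw [hσ σ, map_one, mul_one] at hα ⊢
  rw [hσ τ, map_one, mul_one] at hβ ⊢
  rw [← map_mul]
  have hns : ∀ g : GL (Fin 2) (ZMod p), (∀ s : Pp, H55.conjP g ≠ MulAut.conj s) →
      ¬ IsSquare (g : Matrix (Fin 2) (Fin 2) (ZMod p)).det := by
    rintro g hg ⟨c, hc⟩
    obtain ⟨s, hs⟩ := H11.ThreeOrders.conjP_inner_of_sq g (c := c) (by rw [sq]; exact hc.symm)
    exact hg s hs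
  have hd : ∀ g : GL (Fin 2) (ZMod p), (g : Matrix (Fin 2) (Fin 2) (ZMod p)).det ≠ 0 :=
    fun g => (Matrix.GeneralLinearGroup.det g).ne_zero
  have hchar : ringChar (ZMod p) ≠ 2 := by rwa [ZMod.ringChar_zmod_n]
  obtain ⟨c, hc⟩ : IsSquare ((g * k : GL (Fin 2) (ZMod p)) : Matrix (Fin 2) (Fin 2) (ZMod p)).det := by
    rw [← quadraticChar_one_iff_isSquare (hd _), Units.val_mul, Matrix.det_mul, map_mul,
      quadraticChar_neg_one_iff_not_isSquare.2 (hns g hα),
      quadraticChar_neg_one_iff_not_isSquare.2 (hns k hβ)]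
    rfl
  exact H11.ThreeOrders.conjP_inner_of_sq _ (c := c) (by rw [sq]; exact hc.symm)

theorem cover_cases {L : Type*} [Group L] [Finite L] (hp : 5 ≤ p) (hL : commutator L = ⊤)
    (σ : L →* Pp) (hs : Function.Surjective σ) (hc : σ.ker ≤ center L) :
    Nat.card σ.ker ∣ 2 ∧ (Nonempty (L ≃* Pp) ∨ Nonempty (L ≃* SL(2, ZMod p))) := by
  classical
  have hcard : Fintype.card (ZMod p) = p := ZMod.card p
  have hperf := H39.SL2_perfect' (F := ZMod p) (by omega)
  have h9 : Fintype.card (ZMod p) ≠ 9 := by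
    rw [hcard]; intro h; exact absurd (h ▸ (Fact.out : p.Prime)) (by norm_num)
  have htriv := H39.trivial_multiplier_SL2 (F := ZMod p) (by omega) h9
  let proj : SL(2, ZMod p) →* Pp := QuotientGroup.mk' (center SL(2, ZMod p))
  let Y : Subgroup (L × SL(2, ZMod p)) :=
    { carrier := {x | σ x.1 = proj x.2}
      one_mem' := by simp
      mul_mem' := by
        rintro a b (ha : σ a.1 = proj a.2) (hb : σ b.1 = proj b.2)
        show σ (a.1 * b.1) = proj (a.2 * b.2)
        rw [map_mul, map_mul, ha, hb]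
      inv_mem' := by
        rintro a (ha : σ a.1 = proj a.2)
        show σ a.1⁻¹ = proj a.2⁻¹
        rw [map_inv, map_inv, ha] }
  let τ : Y →* SL(2, ZMod p) := (MonoidHom.snd _ _).comp Y.subtype
  have hτs : Function.Surjective τ := fun s => by
    obtain ⟨g, hg⟩ := hs (proj s)
    exact ⟨⟨(g, s), hg⟩, rfl⟩
  have hτc : τ.ker ≤ center Y := by
    rintro ⟨⟨g, s⟩, hy⟩ hk
    have hs1 : s = 1 := hk
    subst hs1
    have hg : g ∈ σ.ker := by
      rw [MonoidHom.mem_ker]; exact (show σ g = proj 1 from hy).trans (map_one _)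
    rw [Subgroup.mem_center_iff]
    rintro ⟨⟨g', s'⟩, hy'⟩
    exact Subtype.ext (Prod.ext (Subgroup.mem_center_iff.1 (hc hg) g') (by simp))
  obtain ⟨η, hη⟩ := H26.exists_section_of_trivial hperf htriv τ hτc hτs
  let ψ : SL(2, ZMod p) →* L := (MonoidHom.fst _ _).comp (Y.subtype.comp η)
  have hψ : ∀ s, σ (ψ s) = proj s := fun s => by
    have h1 : σ (η s : L × SL(2, ZMod p)).1 = proj (η s : L × SL(2, ZMod p)).2 := (η s).2
    have h2 : (η s : L × SL(2, ZMod p)).2 = s := DFunLike.congr_fun hη s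
    rw [h2] at h1
    exact h1
  have hD : ψ.range.map σ = ⊤ := eq_top_iff.2 fun x _ => by
    obtain ⟨s, rfl⟩ := QuotientGroup.mk'_surjective _ x
    exact ⟨ψ s, ⟨s, rfl⟩, hψ s⟩
  have hψs : Function.Surjective ψ := by
    rw [← MonoidHom.range_eq_top]
    have h1 := H26.commutator_eq_of_surjective_on hc hD
    rw [hL] at h1
    exact top_le_iff.1 (h1.le.trans (Subgroup.map_subtype_le _))
  have hker : ψ.ker ≤ center SL(2, ZMod p) := fun s hs => by
    have h := hψ s
    rw [MonoidHom.mem_ker.1 hs, map_one] at h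
    exact (QuotientGroup.eq_one_iff s).1 h.symm
  have h2 : Nat.card (center SL(2, ZMod p)) = 2 := by
    rw [H37.card_center_SL, Fintype.card_fin, Nat.card_eq_fintype_card, hcard]
    obtain ⟨m, hm⟩ := (Fact.out : p.Prime).odd_of_ne_two (by omega)
    rw [hm, Nat.add_sub_cancel]
    simp
  haveI : Fact (Nat.Prime 2) := ⟨Nat.prime_two⟩
  have hk : σ.ker = (center SL(2, ZMod p)).map ψ := by
    ext x
    obtain ⟨s, rfl⟩ := hψs x
    rw [MonoidHom.mem_ker, hψ]
    constructor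
    · exact fun h => ⟨s, (QuotientGroup.eq_one_iff s).1 h, rfl⟩
    · rintro ⟨t, ht, hts⟩
      rw [← hψ s, ← hts, hψ]
      exact (QuotientGroup.eq_one_iff t).2 ht
  refine ⟨by rw [hk]; exact (Subgroup.card_map_dvd _ _).trans (dvd_of_eq h2), ?_⟩
  rcases ((Subgroup.eq_bot_or_eq_top_of_prime_card (hp := ⟨h2.symm ▸ Nat.prime_two⟩) (ψ.ker.subgroupOf (center SL(2, ZMod p)))))
    with h | h
  · refine Or.inr ⟨(MulEquiv.ofBijective ψ ⟨?_, hψs⟩).symm⟩
    rw [← MonoidHom.ker_eq_bot_iff, ← Subgroup.map_subgroupOf_eq_of_le hker, h, Subgroup.map_bot]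
  · refine Or.inl ⟨(MulEquiv.ofBijective σ ⟨?_, hs⟩)⟩
    rw [← MonoidHom.ker_eq_bot_iff, hk, Subgroup.map_eq_bot_iff]
    exact Subgroup.subgroupOf_eq_top.1 h

end H69.AlmostCyclic
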