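import Cfsg.Agent.H69.AlmostCyclic.Action
import Cfsg.Agent.H69.AlmostCyclic.Model
import Cfsg.Agent.H9.QT.Basic
import Cfsg.Agent.H39.MinSimple

/-!
The structure theorem for groups with cyclic odd Sylow subgroups and almost cyclic Sylow
two-subgroups, from the simple case.
-/

set_option autoImplicit false
set_option linter.style.haveILetI false
set_option linter.unusedSectionVars false

namespace H69.AlmostCyclic

open Subgroup

universe u

/-- The simple case up to order `N`. -/
def Core (N : ℕ) : Prop := ∀ (X : Type u) [Group X] [Finite X] [IsSimpleGroup X], Nat.card X ≤ N →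
  ¬ Group.IsSolvable X → AC X → ∃ (p : ℕ) (_ : Fact p.Prime), 5 ≤ p ∧
    Nonempty (X ≃* Matrix.ProjectiveSpecialLinearGroup (Fin 2) (ZMod p))

theorem Core.four {N : ℕ} (hcore : Core.{u} N) {X : Type u} [Group X] [Finite X] [IsSimpleGroup X]
    (hN : Nat.card X ≤ N) (hns : ¬ Group.IsSolvable X) (hX : AC X) :
    ∃ i j : X, i * i = 1 ∧ j * j = 1 ∧ Commute i j ∧ i ≠ 1 ∧ j ≠ 1 ∧ j ≠ i := by
  obtain ⟨p, hp, h5, ⟨e⟩⟩ := hcore X hN hns hX
  obtain ⟨i, j, h1, h2, h3, h4, h6, h7⟩ := psl_four (p := p) (by omega)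
  exact ⟨e.symm i, e.symm j, by rw [← map_mul, h1, map_one], by rw [← map_mul, h2, map_one],
    h3.map e.symm, by simpa using h4, by simpa using h6, by simpa using h7⟩

theorem exists_involution {X : Type*} [Group X] [Finite X] (hX : AC X) (hns : ¬ Group.IsSolvable X) :
    ∃ c : X, c ≠ 1 ∧ c * c = 1 := by
  haveI : Fact (Nat.Prime 2) := ⟨Nat.prime_two⟩
  by_cases h2 : 2 ∣ Nat.card X
  · obtain ⟨c, hc⟩ := exists_prime_orderOf_dvd_card' 2 h2
    exact ⟨c, fun h => by simp [h] at hc, by rw [← pow_two, ← hc, pow_orderOf_eq_one]⟩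
  · refine absurd ?_ hns
    haveI : IsZGroup X := by
      rw [isZGroup_iff]
      intro p hp P
      haveI := Fact.mk hp
      by_cases hp2 : p = 2
      · subst hp2
        have hb : (P : Subgroup X) = ⊥ := Subgroup.eq_bot_of_card_eq _ (by
          rw [P.card_eq_multiplicity, Nat.factorization_eq_zero_of_not_dvd h2, pow_zero])
        rw [hb]; infer_instance
      · exact hX.odd p hp hp2 P
    rw [Group.isSolvable_iff_commutator_lt]
    intro H hH
    haveI : Nontrivial H := (Subgroup.nontrivial_iff_ne_bot H).2 hH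
    have h := IsZGroup.commutator_lt (G := H)
    refine lt_of_le_of_ne (Subgroup.commutator_le_self H) fun e => h.ne ?_
    apply Subgroup.map_injective H.subtype_injective
    rw [_root_.commutator_def, Subgroup.map_commutator, ← MonoidHom.range_eq_map,
      Subgroup.range_subtype, e]

/-- A component commuting with a nonsolvable subgroup meeting it trivially is impossible. -/
theorem false_of_commuting {X : Type u} [Group X] [Finite X] (hcore : Core.{u} (Nat.card X)) (hX : AC X)
    {S T : Subgroup X} [IsSimpleGroup S] (hS : ¬ Group.IsSolvable S) (hT : ¬ Group.IsSolvable T)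
    (hc : T ≤ centralizer (S : Set X)) : False := by
  obtain ⟨c, hc1, hc2⟩ := exists_involution (hX.sub T) hT
  obtain ⟨i, j, h1, h2, h3, h4, h5, h6⟩ := hcore.four (Nat.card_le_card_of_injective _ S.subtype_injective) hS (hX.sub S)
  have hcs : ∀ s : S, Commute (s : X) c := fun s => mem_centralizer_iff.1 (hc c.2) s s.2
  have hz : ∀ s : S, (c : X) ≠ s := by
    intro s h
    have hs : s ∈ center S := Subgroup.mem_center_iff.2 fun t => Subtype.ext (by
      have := (hcs t).eq
      rw [h] at this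
      exact this)
    have hbot : center S = ⊥ :=
      ((inferInstance : (center S).Normal).eq_bot_or_eq_top).resolve_right fun ht =>
        hS (Group.isSolvable_of_comm fun a b =>
          (Subgroup.mem_center_iff.1 (ht ▸ mem_top b) a))
    rw [hbot, mem_bot] at hs
    exact hc1 (Subtype.ext (by rw [h, hs]; rfl))
  exact hX.no_eight (a := (i : X)) (b := j) (c := c) (congrArg Subtype.val h1)
    (congrArg Subtype.val h2) (congrArg Subtype.val hc2) (congrArg Subtype.val h3)
    (hcs i) (hcs j) (fun h => h4 (Subtype.ext h)) (fun h => h5 (Subtype.ext h))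
    (fun h => h6 (Subtype.ext h)) (fun h => hc1 (Subtype.ext h)) (hz i) (hz j) (hz (i * j))

/-- The radical-free case. -/
theorem radical_free {X : Type u} [Group X] [Finite X] (hcore : Core.{u} (Nat.card X)) (hX : AC X)
    (hns : ¬ Group.IsSolvable X) (hrad : Cfsg.solvableRadical X = ⊥) :
    ∃ (S : Subgroup X) (p : ℕ) (_ : Fact p.Prime), 5 ≤ p ∧ S.Normal ∧ S.index ∣ 2 ∧
      Nonempty (S ≃* Matrix.ProjectiveSpecialLinearGroup (Fin 2) (ZMod p)) := by
  obtain ⟨S, hS⟩ : ∃ S : Subgroup X, Cfsg.IsComponent S := by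
    by_contra h
    push Not at h
    have h0 := Cfsg.Agent.H9.QT.centralizer_layer_eq_bot hrad
    have hl : Cfsg.layer X = ⊥ := le_bot_iff.1 (sSup_le fun L hL => absurd hL (h L))
    rw [hl, Subgroup.coe_bot] at h0
    have ht : centralizer ({1} : Set X) = ⊤ :=
      eq_top_iff.2 fun g _ => mem_centralizer_iff.2 fun x hx => by
        rw [Set.mem_singleton_iff] at hx; simp [hx]
    rw [ht] at h0
    exact hns (Group.isSolvable_of_top_eq_bot X h0)
  haveI := Cfsg.Agent.H9.QT.component_simple hrad hS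
  have hSns : ¬ Group.IsSolvable S := Cfsg.Comp.not_isSolvable_of_quasisimple hS.2
  haveI hn : S.Normal := by
    refine Subgroup.normalizer_eq_top_iff.1 (eq_top_iff.2 fun g _ => ?_)
    have hT := Cfsg.Comp.isComponent_conj hS g
    rcases Cfsg.Comp.component_eq_or_commute hT hS with h | h
    · refine Subgroup.mem_normalizer_fintype fun x hx => ?_
      have : g * x * g⁻¹ ∈ S.map (MulAut.conj g).toMonoidHom := ⟨x, hx, rfl⟩
      rwa [h] at this
    · exact absurd (Subgroup.commutator_eq_bot_iff_le_centralizer.1 h) fun hle =>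
        false_of_commuting hcore hX hSns (Cfsg.Comp.not_isSolvable_of_quasisimple hT.2) hle
  have hC : centralizer (S : Set X) = ⊥ := by
    by_contra h
    have hCn : (centralizer (S : Set X)).Normal := inferInstance
    exact false_of_commuting hcore hX hSns
      (fun hs => h (le_bot_iff.1 (hrad ▸ Cfsg.Agent.H9.QT.le_rad hCn hs))) le_rfl
  obtain ⟨p, hp, h5, ⟨e⟩⟩ := hcore S (Nat.card_le_card_of_injective _ S.subtype_injective) hSns (hX.sub S)
  refine ⟨S, p, hp, h5, hn, ?_, ⟨e⟩⟩
  let c : X →* MulAut (Matrix.ProjectiveSpecialLinearGroup (Fin 2) (ZMod p)) :=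
    (MulAut.congr e).toMonoidHom.comp (MulAut.conjNormal (H := S))
  have hc : ∀ g : X, ∀ s, c g = MulAut.conj s → g ∈ S := by
    intro g s h
    have hg : (e.symm s : X)⁻¹ * g ∈ centralizer (S : Set X) := by
      refine mem_centralizer_iff.2 fun x hx => ?_
      have h2 : e (MulAut.conjNormal g ⟨x, hx⟩) = s * e ⟨x, hx⟩ * s⁻¹ := by
        have := DFunLike.congr_fun h (e ⟨x, hx⟩)
        simpa [c, MulAut.congr, MulAut.conj_apply] using this
      have h3 : MulAut.conjNormal g ⟨x, hx⟩ = e.symm s * ⟨x, hx⟩ * (e.symm s)⁻¹ :=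
        e.injective (by simp [h2])
      have h4 : g * x * g⁻¹ = (e.symm s : X) * x * (e.symm s : X)⁻¹ := by
        simpa [MulAut.conjNormal_apply] using congrArg Subtype.val h3
      calc x * ((e.symm s : X)⁻¹ * g) = (e.symm s : X)⁻¹ * ((e.symm s : X) * x * (e.symm s : X)⁻¹) * g := by group
        _ = (e.symm s : X)⁻¹ * (g * x * g⁻¹) * g := by rw [h4]
        _ = (e.symm s : X)⁻¹ * g * x := by group
    rw [hC, mem_bot, inv_mul_eq_one] at hg
    exact hg ▸ (e.symm s).2
  rcases eq_or_ne S ⊤ with hT | hT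
  · rw [hT, Subgroup.index_top]; exact one_dvd 2
  obtain ⟨a, -, ha⟩ := SetLike.exists_of_lt (lt_top_iff_ne_top.2 hT)
  refine dvd_of_eq (Subgroup.index_eq_two_iff.2 ⟨a, fun b => ?_⟩)
  by_cases hb : b ∈ S
  · exact Or.inr ⟨hb, fun h => ha (by simpa using mul_mem (inv_mem hb) h)⟩
  · refine Or.inl ⟨?_, hb⟩
    obtain ⟨s, hs⟩ := aut_mul_inner (p := p) (by omega) (c b) (c a) (fun s h => hb (hc b s h))
      (fun s h => ha (hc a s h))
    exact hc (b * a) s (by rw [map_mul, hs])

theorem main {G : Type u} [Group G] [Finite G] (hcore : Core.{u} (Nat.card G))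
    (hns : ¬ Group.IsSolvable G) (hG : AC G) :
    ∃ G₀ : Subgroup G, G₀.Normal ∧ G₀.index ∣ 2 ∧
      ∃ X L : Subgroup ↥G₀, X.Normal ∧ L.Normal ∧ X ⊓ L = ⊥ ∧ X ⊔ L = ⊤ ∧ (Nat.card X).Coprime (Nat.card L) ∧
        Odd (Nat.card X) ∧ (∃ (C : Subgroup ↥X) (_ : C.Normal), IsCyclic C ∧ IsCyclic (↥X ⧸ C)) ∧
        ∃ (p : ℕ) (_ : Fact p.Prime), 5 ≤ p ∧
          (Nonempty (↥L ≃* Matrix.ProjectiveSpecialLinearGroup (Fin 2) (ZMod p)) ∨
           Nonempty (↥L ≃* Matrix.SpecialLinearGroup (Fin 2) (ZMod p))) := by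
  haveI : Fact (Nat.Prime 2) := ⟨Nat.prime_two⟩
  obtain ⟨hRn, hRs⟩ := Cfsg.Agent.H9.QT.rad_spec (X := G)
  set R := Cfsg.solvableRadical G with hR
  have hπs : Function.Surjective (QuotientGroup.mk' R) := QuotientGroup.mk'_surjective R
  set π := QuotientGroup.mk' R
  have hXns : ¬ Group.IsSolvable (G ⧸ R) := fun h =>
    hns ((Group.isSolvable_iff_subgroup_quotient R).2 ⟨hRs, h⟩)
  obtain ⟨S, p, hp, h5, hSn, hSi, ⟨e⟩⟩ := radical_free (fun X _ _ _ hX => hcore X (hX.trans (Nat.card_le_card_of_surjective π hπs)))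
    (hG.of_surjective π hπs) hXns
    (Cfsg.Agent.H9.QT.rad_quotient R rfl)
  -- the perfect residual
  set L := Cfsg.Agent.H9.QT.pcore (⊤ : Subgroup G) with hL
  haveI hLn : L.Normal := Cfsg.Agent.H9.QT.pcore_normal inferInstance
  have hLL : ⁅L, L⁆ = L := Cfsg.Agent.H9.QT.pcore_perfect _
  have hLperf : commutator L = ⊤ := by
    apply Subgroup.map_injective L.subtype_injective
    rw [_root_.commutator_def, Subgroup.map_commutator, ← MonoidHom.range_eq_map,
      Subgroup.range_subtype, hLL]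
  have hLne : L ≠ ⊥ := Cfsg.Agent.H9.QT.pcore_ne_bot fun h =>
    hns (Group.isSolvable_of_surjective (f := (Subgroup.topEquiv : (⊤ : Subgroup G) ≃* G).toMonoidHom) Subgroup.topEquiv.surjective)
  have hLSle : L.map π ≤ S := by
    intro x hx
    have hq : Group.IsSolvable ((G ⧸ R) ⧸ S) := by
      refine Group.isSolvable_of_comm ?_
      have hc : Nat.card ((G ⧸ R) ⧸ S) ∣ 2 := hSi
      rcases (Nat.dvd_prime Nat.prime_two).1 hc with h | h
      · haveI := (Nat.card_eq_one_iff_unique.1 h).1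
        intro a b; exact Subsingleton.elim _ _
      · haveI := isCyclic_of_prime_card (p := 2) h
        exact fun a b => (IsCyclic.isMulCommutative).is_comm.comm a b
    obtain ⟨l, hl, rfl⟩ := hx
    exact (QuotientGroup.eq_one_iff _).1
      (hom_trivial_of_perfect hLperf (((QuotientGroup.mk' S).comp π).comp L.subtype) ⟨l, hl⟩)
  have hLS : L.map π = S := by
    haveI : IsSimpleGroup (Matrix.ProjectiveSpecialLinearGroup (Fin 2) (ZMod p)) :=
      H39.G2_simple (by rw [ZMod.card]; omega)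
    haveI : Nontrivial S := e.toEquiv.nontrivial
    haveI : IsSimpleGroup S := IsSimpleGroup.isSimpleGroup_of_surjective e.symm.toMonoidHom e.symm.surjective
    haveI : (L.map π).Normal := Subgroup.Normal.map hLn π hπs
    rcases (inferInstance : ((L.map π).subgroupOf S).Normal).eq_bot_or_eq_top with h | h
    · exfalso
      have hb : L.map π = ⊥ := by
        rw [← Subgroup.map_subgroupOf_eq_of_le hLSle, h, Subgroup.map_bot]
      rw [Subgroup.map_eq_bot_iff, QuotientGroup.ker_mk'] at hb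
      exact hLne (Cfsg.Agent.H9.QT.eq_bot_of_perfect_le_solvable hLL hb hRs)
    · exact le_antisymm hLSle (Subgroup.subgroupOf_eq_top.1 h)
  set C := centralizer (L : Set G) with hC
  haveI hCn : C.Normal := inferInstance
  have hRC : R ≤ C := Subgroup.commutator_eq_bot_iff_le_centralizer.1
    (centralizes_solvable L hG hLperf R hRs)
  -- the map onto `S`
  let σ : L →* S := (π.comp L.subtype).codRestrict S fun l => hLSle ⟨l, l.2, rfl⟩
  have hσs : Function.Surjective σ := by
    rintro ⟨x, hx⟩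
    obtain ⟨l, hl, rfl⟩ := hLS.symm ▸ hx
    exact ⟨⟨l, hl⟩, rfl⟩
  let τ := e.toMonoidHom.comp σ
  have hτs : Function.Surjective τ := e.surjective.comp hσs
  have hτk : ∀ l : L, l ∈ τ.ker ↔ (l : G) ∈ R := by
    intro l
    rw [MonoidHom.mem_ker]
    show e (σ l) = 1 ↔ _
    rw [MulEquiv.map_eq_one_iff, Subtype.ext_iff]
    exact QuotientGroup.eq_one_iff (l : G)
  have hτc : τ.ker ≤ center L := fun l hl => Subgroup.mem_center_iff.2 fun m =>
    Subtype.ext (mem_centralizer_iff.1 (hRC ((hτk l).1 hl)) m m.2)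
  obtain ⟨hk2, hiso⟩ := cover_cases h5 hLperf τ hτs hτc
  -- the meet of the two factors
  have hCL : ∀ x ∈ C, x ∈ L → x ∈ R := by
    intro x hxC hxL
    have hz : σ ⟨x, hxL⟩ ∈ center S := by
      refine Subgroup.mem_center_iff.2 fun s => ?_
      obtain ⟨m, rfl⟩ := hσs s
      rw [← map_mul, ← map_mul]
      exact congrArg σ (Subtype.ext (mem_centralizer_iff.1 hxC m m.2))
    haveI : IsSimpleGroup (Matrix.ProjectiveSpecialLinearGroup (Fin 2) (ZMod p)) :=
      H39.G2_simple (by rw [ZMod.card]; omega)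
    haveI : Nontrivial S := e.toEquiv.nontrivial
    haveI : IsSimpleGroup S := IsSimpleGroup.isSimpleGroup_of_surjective e.symm.toMonoidHom e.symm.surjective
    have hbot : center S = ⊥ :=
      ((inferInstance : (center S).Normal).eq_bot_or_eq_top).resolve_right fun ht => by
        haveI : Group.IsSolvable S := Group.isSolvable_of_comm fun a b =>
          Subgroup.mem_center_iff.1 (ht ▸ mem_top b) a
        exact hXns ((Group.isSolvable_iff_subgroup_quotient S).2 ⟨inferInstance, by
          refine Group.isSolvable_of_comm ?_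
          rcases (Nat.dvd_prime Nat.prime_two).1 (show Nat.card ((G ⧸ R) ⧸ S) ∣ 2 from hSi) with h | h
          · haveI := (Nat.card_eq_one_iff_unique.1 h).1
            intro a b; exact Subsingleton.elim _ _
          · haveI := isCyclic_of_prime_card (p := 2) h
            exact fun a b => (IsCyclic.isMulCommutative).is_comm.comm a b⟩)
    rw [hbot, mem_bot] at hz
    exact (QuotientGroup.eq_one_iff x).1 (congrArg Subtype.val hz)
  set K := C ⊓ L with hK
  haveI hKn : K.Normal := Subgroup.normal_inf_normal _ _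
  have hKcard : Nat.card K ∣ 2 := by
    have : K.subgroupOf L = τ.ker := by
      ext l
      rw [Subgroup.mem_subgroupOf, hτk]
      exact ⟨fun h => hCL _ h.1 h.2, fun h => ⟨hRC h, l.2⟩⟩
    rw [← this] at hk2
    rwa [Nat.card_congr (Subgroup.subgroupOfEquivOfLe inf_le_right).toEquiv] at hk2
  -- no further two-part
  have hodd : ¬ 2 ∣ K.relIndex C := by
    intro h2
    haveI : (K.subgroupOf C).Normal := inferInstance
    obtain ⟨c, hc⟩ := exists_prime_orderOf_dvd_card' (G := C ⧸ K.subgroupOf C) 2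
      (by rwa [← Subgroup.index_eq_card])
    obtain ⟨x, rfl⟩ := QuotientGroup.mk_surjective c
    let ρ := QuotientGroup.mk' K
    obtain ⟨i, j, hi, hj, hij, hi1, hj1, hji⟩ := psl_four (p := p) (by omega)
    obtain ⟨li, rfl⟩ := hτs i
    obtain ⟨lj, rfl⟩ := hτs j
    have key : ∀ l : L, ρ (l : G) = 1 ↔ τ l = 1 := by
      intro l
      rw [← MonoidHom.mem_ker, QuotientGroup.ker_mk', ← MonoidHom.mem_ker, hτk]
      exact ⟨fun h => hCL _ h.1 h.2, fun h => ⟨hRC h, l.2⟩⟩
    have keq : ∀ l m : L, ρ (l : G) = ρ (m : G) → τ l = τ m := by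
      intro l m h
      have h' : ρ ((l⁻¹ * m : L) : G) = 1 := by
        push_cast
        rw [map_mul, map_inv, h, inv_mul_cancel]
      rw [key, map_mul, map_inv, inv_mul_eq_one] at h'
      exact h'
    have hx2 : ρ (x : G) * ρ (x : G) = 1 := by
      rw [← map_mul, QuotientGroup.mk'_apply, QuotientGroup.eq_one_iff]
      have : (QuotientGroup.mk (x * x) : C ⧸ K.subgroupOf C) = 1 := by
        rw [QuotientGroup.mk_mul, ← pow_two, ← hc, pow_orderOf_eq_one]
      exact Subgroup.mem_subgroupOf.1 ((QuotientGroup.eq_one_iff _).1 this)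
    have hxL : (x : G) ∉ L := fun h => by
      have : (QuotientGroup.mk x : C ⧸ K.subgroupOf C) = 1 :=
        (QuotientGroup.eq_one_iff _).2 (Subgroup.mem_subgroupOf.2 ⟨x.2, h⟩)
      rw [this, orderOf_one] at hc
      exact absurd hc (by norm_num)
    have hxρ : ∀ l : L, ρ (x : G) ≠ ρ (l : G) := by
      intro l h
      have : (l : G)⁻¹ * x ∈ K := QuotientGroup.eq.1 h.symm
      exact hxL (by simpa using mul_mem l.2 this.2)
    have hxc : ∀ l : L, Commute (ρ (l : G)) (ρ (x : G)) := fun l =>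
      Commute.map (mem_centralizer_iff.1 x.2 l l.2) ρ
    refine (hG.of_surjective ρ (QuotientGroup.mk'_surjective K)).no_eight
      (a := ρ (li : G)) (b := ρ (lj : G)) (c := ρ (x : G)) ?_ ?_ hx2 ?_ (hxc li) (hxc lj) ?_ ?_ ?_ ?_
      (hxρ li) (hxρ lj) ?_
    · rw [← map_mul]; exact (key (li * li)).2 (by rw [map_mul, hi])
    · rw [← map_mul]; exact (key (lj * lj)).2 (by rw [map_mul, hj])
    · have h : τ ((lj * li)⁻¹ * (li * lj)) = 1 := by
        rw [map_mul, map_inv, map_mul, map_mul, hij.eq, inv_mul_cancel]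
      have := (key _).2 h
      push_cast at this
      rw [map_mul, map_inv, inv_mul_eq_one, map_mul, map_mul] at this
      exact this.symm
    · exact fun h => hi1 ((key li).1 h)
    · exact fun h => hj1 ((key lj).1 h)
    · exact fun h => hji (keq _ _ h)
    · exact fun h => hxρ 1 (h.trans (map_one ρ).symm)
    · rw [← map_mul]; exact hxρ (li * lj)
  -- the odd factor
  haveI : (K.subgroupOf C).Normal := inferInstance
  have hKC : Nat.card (K.subgroupOf C) ∣ 2 := by
    rwa [Nat.card_congr (Subgroup.subgroupOfEquivOfLe inf_le_left).toEquiv]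
  have hcop : (Nat.card (K.subgroupOf C)).Coprime (K.subgroupOf C).index :=
    Nat.Coprime.coprime_dvd_left hKC ((Nat.prime_two.coprime_iff_not_dvd).2 hodd)
  obtain ⟨X, hX⟩ := Subgroup.exists_right_complement'_of_coprime hcop
  have hXodd : Odd (Nat.card X) := by
    rw [← hX.symm.index_eq_card, Nat.odd_iff, ← Nat.two_dvd_ne_zero]
    exact hodd
  have hmemX : ∀ x : C, Odd (orderOf x) → x ∈ X := by
    intro x hx
    obtain ⟨k, hk, y, hy, he⟩ : ∃ k ∈ K.subgroupOf C, ∃ y ∈ X, k * y = x := by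
      obtain ⟨⟨⟨k, hk⟩, ⟨y, hy⟩⟩, he⟩ := hX.2 x
      exact ⟨k, hk, y, hy, he⟩
    have hcomm : Commute k y := by
      have h : ((k : G)) ∈ L := (Subgroup.mem_subgroupOf.1 hk).2
      exact Subtype.ext (mem_centralizer_iff.1 y.2 k h)
    have hk2' : k ^ 2 = 1 := by
      have := orderOf_dvd_natCard (⟨k, hk⟩ : K.subgroupOf C)
      rw [Subgroup.orderOf_mk] at this
      exact orderOf_dvd_iff_pow_eq_one.1 (this.trans hKC)
    have hyo : Odd (orderOf y) := hXodd.of_dvd_nat (Subgroup.orderOf_dvd_natCard X hy)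
    obtain ⟨m, hm⟩ := hx.mul hyo
    have h1 : (k * y) ^ (orderOf x * orderOf y) = 1 := by
      rw [he, pow_mul, pow_orderOf_eq_one, one_pow]
    have h2 : y ^ (orderOf x * orderOf y) = 1 := by rw [mul_comm, pow_mul, pow_orderOf_eq_one, one_pow]
    rw [hcomm.mul_pow, h2, mul_one, hm, pow_succ, pow_mul, hk2', one_pow, one_mul] at h1
    rw [← he, h1, one_mul]
    exact hy
  set G₀ := C ⊔ L with hG₀
  haveI : G₀.Normal := Subgroup.sup_normal C L
  have hG₀i : G₀.index ∣ 2 := by
    refine (Subgroup.index_dvd_of_le (H := S.comap π) ?_).trans ?_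
    · intro g hg
      obtain ⟨l, hl, he⟩ := hLS.symm ▸ (Subgroup.mem_comap.1 hg)
      have : l⁻¹ * g ∈ R := QuotientGroup.eq.1 he
      have h := Subgroup.mul_mem_sup (hRC this) (one_mem L)
      rw [mul_one] at h
      simpa using mul_mem (le_sup_right (a := C) hl) h
    · rwa [Subgroup.index_comap_of_surjective _ hπs]
  set X₀ := X.map C.subtype with hX₀
  have hX₀le : X₀ ≤ C := Subgroup.map_subtype_le _
  haveI hX₀n : X₀.Normal := ⟨by
    rintro _ ⟨x, hx, rfl⟩ g
    refine ⟨⟨g * x * g⁻¹, hCn.conj_mem _ x.2 g⟩, hmemX _ ?_, rfl⟩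
    rw [← Subgroup.orderOf_coe]
    show Odd (orderOf (g * (x : G) * g⁻¹))
    rw [← MulAut.conj_apply, MulEquiv.orderOf_eq, Subgroup.orderOf_coe]
    exact hXodd.of_dvd_nat (Subgroup.orderOf_dvd_natCard X hx)⟩
  have hX₀card : Nat.card X₀ = Nat.card X :=
    Nat.card_congr (X.equivMapOfInjective C.subtype C.subtype_injective).symm.toEquiv
  refine ⟨G₀, inferInstance, hG₀i, X₀.subgroupOf G₀, L.subgroupOf G₀, inferInstance, inferInstance,
    ?_, ?_, ?_, ?_, ?_, p, hp, h5, ?_⟩
  · rw [eq_bot_iff]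
    intro g hg
    have hgX : (g : G) ∈ X₀ := Subgroup.mem_subgroupOf.1 hg.1
    have hgL : (g : G) ∈ L := Subgroup.mem_subgroupOf.1 hg.2
    obtain ⟨x, hx, hxe⟩ := hgX
    have hxe' : (x : G) = g := hxe
    have hxK : x ∈ K.subgroupOf C := Subgroup.mem_subgroupOf.2 ⟨x.2, hxe' ▸ hgL⟩
    have := (Subgroup.eq_bot_iff_forall _).1 (hX.disjoint.eq_bot) x ⟨hxK, hx⟩
    rw [mem_bot]
    exact Subtype.ext (by rw [← hxe', this]; rfl)
  · rw [← Subgroup.subgroupOf_sup (hX₀le.trans le_sup_left) le_sup_right, Subgroup.subgroupOf_eq_top]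
    refine sup_le (fun c hc => ?_) le_sup_right
    obtain ⟨⟨⟨k, hk⟩, ⟨y, hy⟩⟩, he⟩ := hX.2 ⟨c, hc⟩
    have he' : (k : G) * y = c := congrArg Subtype.val he
    rw [← he']
    exact mul_mem (le_sup_right (a := X₀) (Subgroup.mem_subgroupOf.1 hk).2)
      (le_sup_left (b := L) ⟨y, hy, rfl⟩)
  · rw [Nat.card_congr (Subgroup.subgroupOfEquivOfLe (hX₀le.trans le_sup_left)).toEquiv,
      Nat.card_congr (Subgroup.subgroupOfEquivOfLe (le_sup_right : L ≤ G₀)).toEquiv, hX₀card]
    refine Nat.coprime_of_dvd fun r hr h1 h2 => ?_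
    haveI := Fact.mk hr
    have hr2 : r ≠ 2 := by
      rintro rfl
      exact Nat.not_even_iff_odd.2 hXodd (even_iff_two_dvd.2 h1)
    obtain ⟨x, hx⟩ := exists_prime_orderOf_dvd_card' (G := X) r h1
    obtain ⟨l, hl⟩ := exists_prime_orderOf_dvd_card' (G := L) r h2
    have hxo : orderOf ((x : C) : G) = r := by rw [Subgroup.orderOf_coe, Subgroup.orderOf_coe, hx]
    have hlo : orderOf (l : G) = r := by rw [Subgroup.orderOf_coe, hl]
    have hc : Commute ((x : C) : G) (l : G) := (mem_centralizer_iff.1 (x : C).2 l l.2).symm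
    have he := hG.zpowers_eq hr hr2 hxo hlo hc
    have hxL : ((x : C) : G) ∈ L :=
      (Subgroup.zpowers_le.2 l.2) (he ▸ Subgroup.mem_zpowers _)
    have hxK : (x : C) ∈ K.subgroupOf C := Subgroup.mem_subgroupOf.2 ⟨(x : C).2, hxL⟩
    have := (Subgroup.eq_bot_iff_forall _).1 (hX.disjoint.eq_bot) (x : C) ⟨hxK, x.2⟩
    rw [this, OneMemClass.coe_one, orderOf_one] at hxo
    exact hr.ne_one hxo.symm
  · rwa [Nat.card_congr (Subgroup.subgroupOfEquivOfLe (hX₀le.trans le_sup_left)).toEquiv, hX₀card]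
  · let e' := Subgroup.subgroupOfEquivOfLe (hX₀le.trans (le_sup_left (b := L)))
    have hAC : AC (X₀.subgroupOf G₀) :=
      hG.of_injective (X₀.subtype.comp e'.toMonoidHom) (X₀.subtype_injective.comp e'.injective)
    haveI : IsZGroup (X₀.subgroupOf G₀) := by
      rw [isZGroup_iff]
      intro q hq P
      haveI := Fact.mk hq
      by_cases hq2 : q = 2
      · subst hq2
        have hb : (P : Subgroup (X₀.subgroupOf G₀)) = ⊥ := Subgroup.eq_bot_of_card_eq _ (by
          rw [P.card_eq_multiplicity, Nat.factorization_eq_zero_of_not_dvd (by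
            rw [Nat.card_congr e'.toEquiv, hX₀card]
            exact fun h => Nat.not_even_iff_odd.2 hXodd (even_iff_two_dvd.2 h)), pow_zero])
        rw [hb]; infer_instance
      · exact hAC.odd q hq hq2 P
    refine ⟨commutator _, inferInstance, IsZGroup.isCyclic_commutator _, ?_⟩
    haveI : IsZGroup (↥(X₀.subgroupOf G₀) ⧸ commutator ↥(X₀.subgroupOf G₀)) :=
      IsZGroup.of_surjective (QuotientGroup.mk'_surjective _)
    haveI : Group.IsNilpotent (↥(X₀.subgroupOf G₀) ⧸ commutator ↥(X₀.subgroupOf G₀)) :=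
      CommGroup.isNilpotent (G := Abelianization ↥(X₀.subgroupOf G₀))
    infer_instance
  · let eL := Subgroup.subgroupOfEquivOfLe (le_sup_right : L ≤ G₀)
    exact hiso.imp (fun ⟨f⟩ => ⟨eL.trans f⟩) (fun ⟨f⟩ => ⟨eL.trans f⟩)

end H69.AlmostCyclic
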