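import Cfsg.Agent.H69.AlmostCyclic.Glue
import Cfsg.Agent.H76.CSy.Defs

/-!
Reduction of S4069 to simple groups all of whose proper subgroups satisfy it.
-/

set_option autoImplicit false

namespace H69.AlmostCyclic

universe u

theorem reduce : H76.CSy.ReduceStmt.{u} := by
  intro hsimple
  have core : ∀ N : ℕ, Core.{u} N := by
    intro N
    induction N with
    | zero => intro X _ _ _ hc; have := Nat.card_pos (α := X); omega
    | succ n ih =>
      intro X _ _ hs hc hns hX
      refine hsimple X ⟨hs, fun h => hns (Group.isSolvable_of_comm fun a b => h.is_comm.comm a b),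
        hX.odd, hX.two, fun H hH hHns => ?_⟩
      have hlt : Nat.card H < Nat.card X := by
        refine lt_of_le_of_ne (Nat.card_le_card_of_injective _ H.subtype_injective) fun e => hH ?_
        exact Subgroup.eq_top_of_card_eq H e
      exact main (fun Y _ _ _ hY => ih Y (by omega)) hHns (hX.sub H)
  intro G _ _ hns hodd h2
  exact main (core _) hns ⟨hodd, h2⟩

end H69.AlmostCyclic
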